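import Mathlib

/-!
# An affine integral surjective cover with algebraically closed residue fields
-/

set_option autoImplicit false
universe u

open CategoryTheory AlgebraicGeometry Polynomial

namespace AlgClCover

variable (A : Type u) [CommRing A]

/-- monic polynomials of positive degree -/
abbrev Idx : Type u := {f : A[X] // f.Monic ∧ 0 < f.natDegree}

noncomputable def rel : Ideal (MvPolynomial (Idx A) A) :=
  Ideal.span (Set.range fun f : Idx A => Polynomial.aeval (MvPolynomial.X f) f.1)

/-- adjoin a root of each monic polynomial -/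
abbrev Ring1 : Type u := MvPolynomial (Idx A) A ⧸ rel A

theorem exists_root (f : Idx A) : ∃ r : Ring1 A, Polynomial.aeval r f.1 = 0 := by
  refine ⟨Ideal.Quotient.mkₐ A (rel A) (MvPolynomial.X f), ?_⟩
  rw [Polynomial.aeval_algHom_apply, Ideal.Quotient.mkₐ_eq_mk, Ideal.Quotient.eq_zero_iff_mem]
  exact Ideal.subset_span ⟨f, rfl⟩

instance isIntegral : Algebra.IsIntegral A (Ring1 A) := by
  constructor
  intro x
  obtain ⟨p, rfl⟩ := Ideal.Quotient.mkₐ_surjective A (rel A) x
  have hp : p ∈ (⊤ : Subalgebra A (MvPolynomial (Idx A) A)) := Algebra.mem_top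
  rw [← MvPolynomial.adjoin_range_X] at hp
  have : Algebra.adjoin A (Set.range (MvPolynomial.X : Idx A → MvPolynomial (Idx A) A)) ≤
      (integralClosure A (Ring1 A)).comap (Ideal.Quotient.mkₐ A (rel A)) := by
    rw [Algebra.adjoin_le_iff]
    rintro _ ⟨f, rfl⟩
    refine ⟨f.1, f.2.1, ?_⟩
    show Polynomial.aeval (Ideal.Quotient.mkₐ A (rel A) (MvPolynomial.X f)) f.1 = 0
    rw [Polynomial.aeval_algHom_apply, Ideal.Quotient.mkₐ_eq_mk, Ideal.Quotient.eq_zero_iff_mem]
    exact Ideal.subset_span ⟨f, rfl⟩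
  exact this hp

theorem spec_surjective (p : PrimeSpectrum A) :
    ∃ q : PrimeSpectrum (Ring1 A), q.comap (algebraMap A (Ring1 A)) = p := by
  classical
  let K := AlgebraicClosure p.asIdeal.ResidueField
  let a : A →+* K := (algebraMap p.asIdeal.ResidueField K).comp (algebraMap A p.asIdeal.ResidueField)
  have : ∀ f : Idx A, ∃ r : K, Polynomial.eval₂ a r f.1 = 0 := by
    intro f
    obtain ⟨r, hr⟩ := IsAlgClosed.exists_root (f.1.map a) (by
      rw [Polynomial.degree_map_eq_of_leadingCoeff_ne_zero a (by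
        rw [f.2.1.leadingCoeff, map_one]; exact one_ne_zero)]
      exact (Polynomial.natDegree_pos_iff_degree_pos.1 f.2.2).ne')
    exact ⟨r, by rwa [Polynomial.IsRoot, Polynomial.eval_map] at hr⟩
  choose r hr using this
  let ψ : Ring1 A →+* K := Ideal.Quotient.lift (rel A) (MvPolynomial.eval₂Hom a r) (by
    intro x hx
    refine RingHom.mem_ker.1 ((Ideal.span_le (I := RingHom.ker (MvPolynomial.eval₂Hom a r))).2 ?_ hx)
    rintro _ ⟨f, rfl⟩
    simp only [SetLike.mem_coe, RingHom.mem_ker]
    rw [Polynomial.aeval_def, Polynomial.hom_eval₂, MvPolynomial.eval₂Hom_X']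
    convert hr f using 2
    ext; simp)
  refine ⟨⟨RingHom.ker ψ, RingHom.ker_isPrime ψ⟩, ?_⟩
  apply PrimeSpectrum.ext
  ext x
  simp only [PrimeSpectrum.comap_asIdeal, Ideal.mem_comap, RingHom.mem_ker]
  have : ψ (algebraMap A (Ring1 A) x) = a x := by
    rw [← Ideal.Quotient.mk_algebraMap]
    show MvPolynomial.eval₂Hom a r (algebraMap A _ x) = a x
    simp
  rw [this]
  show algebraMap _ K (algebraMap A p.asIdeal.ResidueField x) = 0 ↔ _
  rw [map_eq_zero, Ideal.algebraMap_residueField_eq_zero]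

/-- the residue field criterion -/
theorem field_lemma {B : Type u} [CommRing B] [Algebra A B] [Algebra.IsIntegral A B]
    (hroot : ∀ f : A[X], f.Monic → 0 < f.natDegree → ∃ r : B, Polynomial.aeval r f = 0)
    {F E : Type u} [Field F] [Field E] (a : A →+* F) (b : B →+* E) (ι : F →+* E)
    (hc : ι.comp a = b.comp (algebraMap A B))
    (ha : ∀ z : F, ∃ x y, a y ≠ 0 ∧ z * a y = a x)
    (hb : ∀ z : E, ∃ x y, b y ≠ 0 ∧ z * b y = b x) :
    IsAlgClosed E ∧ ι.IsIntegral := by
  algebraize [ι]
  have hbint : ∀ x : B, IsIntegral F (b x) := by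
    intro x
    obtain ⟨p, hpm, hp⟩ := Algebra.IsIntegral.isIntegral (R := A) x
    refine ⟨p.map a, hpm.map a, ?_⟩
    rw [Polynomial.eval₂_map]
    show Polynomial.eval₂ (ι.comp a) (b x) p = 0
    rw [hc, ← Polynomial.hom_eval₂, hp, map_zero]
  have halg : Algebra.IsAlgebraic F E := by
    constructor
    intro z
    obtain ⟨x, y, hy, hxy⟩ := hb z
    have : z = b x * (b y)⁻¹ := by rw [← hxy, mul_assoc, mul_inv_cancel₀ hy, mul_one]
    rw [this]
    exact ((hbint x).mul (hbint y).inv).isAlgebraic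
  refine ⟨?_, fun z => (Algebra.IsAlgebraic.isAlgebraic z).isIntegral⟩
  have : IsAlgClosure F E := by
    refine IsAlgClosure.of_exists_root fun g hg hirr => ?_
    classical
    choose num den hden hnum using ha
    let d : A := ∏ i ∈ Finset.range (g.natDegree + 1), den (g.coeff i)
    have hd : a d ≠ 0 := by
      rw [map_prod]
      exact Finset.prod_ne_zero_iff.2 fun i _ => hden _
    have hcoef : ∀ i, (g.scaleRoots (a d)).coeff i ∈ Set.range a := by
      intro i
      rw [Polynomial.coeff_scaleRoots]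
      rcases lt_or_ge i g.natDegree with hi | hi
      · obtain ⟨k, hk⟩ : den (g.coeff i) ∣ d :=
          Finset.dvd_prod_of_mem _ (Finset.mem_range.2 (by omega))
        obtain ⟨m, hm⟩ : ∃ m, g.natDegree - i = m + 1 := ⟨g.natDegree - i - 1, by omega⟩
        refine ⟨num (g.coeff i) * k * d ^ m, ?_⟩
        rw [hm, map_mul, map_mul, map_pow, ← hnum, mul_assoc (g.coeff i), ← map_mul, ← hk]
        ring
      · rw [Nat.sub_eq_zero_of_le hi, pow_zero, mul_one]
        rcases hi.lt_or_eq with hi' | hi'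
        · exact ⟨0, by rw [map_zero, Polynomial.coeff_eq_zero_of_natDegree_lt hi']⟩
        · exact ⟨1, by rw [map_one, ← hi', hg.coeff_natDegree]⟩
    obtain ⟨q, hq, hqd, hqm⟩ := Polynomial.lifts_and_natDegree_eq_and_monic
      ((Polynomial.lifts_iff_coeff_lifts _).2 hcoef) ((Polynomial.monic_scaleRoots_iff _).2 hg)
    obtain ⟨r, hr⟩ := hroot q hqm (by
      rw [hqd, Polynomial.natDegree_scaleRoots]; exact hirr.natDegree_pos)
    refine ⟨b r * (ι (a d))⁻¹, ?_⟩
    have hr' : Polynomial.eval₂ ι (b r) (g.scaleRoots (a d)) = 0 := by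
      rw [← hq, Polynomial.eval₂_map, hc, ← Polynomial.hom_eval₂]
      rw [Polynomial.aeval_def] at hr
      rw [hr, map_zero]
    have hne : ι (a d) ≠ 0 := fun h => hd (ι.injective (by rw [h, map_zero]))
    have key := Polynomial.scaleRoots_eval₂_mul (p := g) ι (b r * (ι (a d))⁻¹) (a d)
    rw [show ι (a d) * (b r * (ι (a d))⁻¹) = b r by field_simp, hr'] at key
    rw [Polynomial.aeval_def]
    exact (mul_eq_zero.1 key.symm).resolve_left (pow_ne_zero _ hne)
  exact IsAlgClosure.isAlgClosed F

/-- evaluation of ring elements at a point of `Spec` -/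
noncomputable def ev (R : CommRingCat.{u}) (x : Spec R) : R →+* (Spec R).residueField x :=
  ((Scheme.ΓSpecIso R).inv ≫ (Spec R).Γevaluation x).hom

theorem ev_frac (R : CommRingCat.{u}) (x : Spec R) (z : (Spec R).residueField x) :
    ∃ a b : R, ev R x b ≠ 0 ∧ z * ev R x b = ev R x a := by
  haveI : x.asIdeal.IsPrime := x.isPrime
  have hev : CommRingCat.ofHom (ev R x) =
      CommRingCat.ofHom (algebraMap R _) ≫ (Scheme.Spec.residueFieldIso R x).inv := by
    rw [Scheme.Spec.algebraMap_residueFieldIso_inv]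
    rfl
  obtain ⟨a, b, hb, hab⟩ := IsFractionRing.div_surjective (A := R ⧸ x.asIdeal)
    ((Scheme.Spec.residueFieldIso R x).hom z)
  obtain ⟨a, rfl⟩ := Ideal.Quotient.mk_surjective a
  obtain ⟨b, rfl⟩ := Ideal.Quotient.mk_surjective b
  have e : ∀ c : R, ev R x c =
      (Scheme.Spec.residueFieldIso R x).inv (algebraMap R x.asIdeal.ResidueField c) := fun c =>
    congrArg (fun f => f.hom c) hev
  have hb' : algebraMap (R ⧸ x.asIdeal) x.asIdeal.ResidueField (Ideal.Quotient.mk _ b) ≠ 0 :=
    IsFractionRing.to_map_ne_zero_of_mem_nonZeroDivisors hb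
  refine ⟨a, b, ?_, ?_⟩
  · rw [e]
    intro h0
    apply hb'
    have := congrArg (Scheme.Spec.residueFieldIso R x).hom h0
    simpa using this
  · have hz : z = (Scheme.Spec.residueFieldIso R x).inv ((Scheme.Spec.residueFieldIso R x).hom z) := by
      simp
    rw [e, e, hz, ← map_mul]
    congr 1
    rw [← hab, div_mul_eq_mul_div, div_eq_iff hb']
    rfl

theorem cover_residueField (A : CommRingCat.{u}) (q : Spec (CommRingCat.of (Ring1 A))) :
    IsAlgClosed ((Spec (CommRingCat.of (Ring1 A))).residueField q) ∧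
      ((Spec.map (CommRingCat.ofHom (algebraMap A (Ring1 A)))).residueFieldMap q).hom.IsIntegral := by
  refine field_lemma A (B := Ring1 A) (fun f hf hd => exists_root A ⟨f, hf, hd⟩)
    (ev A _) (ev (CommRingCat.of (Ring1 A)) q) _ ?_ (ev_frac _ _) (ev_frac _ _)
  ext c
  simp only [RingHom.comp_apply, ev, CommRingCat.hom_comp]
  refine (Scheme.Γevaluation_naturality_apply _ _ _).trans ?_
  congr 1
  exact (congrArg (fun f => f.hom c)
    (Scheme.ΓSpecIso_inv_naturality (CommRingCat.ofHom (algebraMap A (Ring1 A))))).symm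

end AlgClCover
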